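import Cfsg.Agent.H86.EvenCase
import Cfsg.Agent.H82.Level

/-!
# Sylow subgroups of overgroups of a regular unipotent element (helper655, for helper28)

`exists_sylow` : a finite subgroup `H` of a simply laced Chevalley group in characteristic `p` containing one regular
element `e` of `U` has the Sylow `p`-subgroup `H ∩ U`.
-/

set_option autoImplicit false

namespace Cfsg.Agent.H655.TwOv

open Cfsg.Lie Cfsg.Agent.ChevalleyStructure Cfsg.Agent.ChevalleyStructure.RootCombGood
  Cfsg.Agent.ChevalleyStructure.RootWord Cfsg.Agent.ChevalleyStructure.RootVec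
  Cfsg.Agent.ChevalleyStructure.RootVecTab Cfsg.Agent.ChevalleyStructure.RootSupport
  Cfsg.Agent.ChevalleyStructure.Elts Cfsg.Agent.ChevalleyStructure.BruhatSplit
  Cfsg.Agent.H92.ChevCent Cfsg.Agent.H92.ChevFrob
open Cfsg.Agent.H82.Level (SL Lv Lv_one cf cf_one cf_mul cf_xG cf_conj cf_inv)
open Cfsg.Agent.H86.Par (pos_pow mem_pos_of_pow)


universe u

variable {D : ChevalleyDatum} {K : Type u} [Field K]

/-- the coordinate at `p_i` vanishes on `U_i` -/
theorem cf_Ui (hD : InList D) (h : SL D) {i : ℕ} (hi : i < D.rank) {g : GL D.Idx K} (hg : g ∈ Ui K D i) :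
    cf (D.simple i) g = 0 := by
  have G : Good D := RootComb.good_of_mem hD
  have hs := h.simple i hi
  have hU : ∀ x, x ∈ Ui K D i → x ∈ Lv K hD h 1 := fun x hx => by
    rw [Lv_one]
    exact Ui_le i hx
  unfold Ui at hg
  induction hg using Subgroup.closure_induction with
  | mem x hx =>
    obtain ⟨s, t, hs, hne, hx⟩ := hx
    have e : x = xG hD s t := Units.ext (by rw [hx, coe_xG])
    rw [e, cf_xG hD h (G.simple_lt hi) hs.1, if_neg hne.symm]
  | one => exact cf_one _
  | mul x y hx hy ihx ihy =>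
    rw [cf_mul hD h (hU x hx) (hU y hy) (by rw [hs]; norm_num), ihx, ihy, add_zero]
  | inv x hx ihx =>
    rw [cf_inv hD h (by rw [hs]; exact hU x hx), ihx, neg_zero]

/-- `g` conjugating one regular element of `U` into `U` lies in `B` -/
theorem mem_borel_of_conj_reg (hD : InList D) (h : SL D) {g : GL D.Idx K} (hg : g ∈ D.group K) {v : GL D.Idx K}
    (hvU : v ∈ D.posUnipotent K) (hcv : ∀ i < D.rank, cf (D.simple i) v ≠ 0)
    (hc : g * v * g⁻¹ ∈ D.posUnipotent K) : g ∈ D.borelSubgroup K := by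
  have G : Good D := RootComb.good_of_mem hD
  obtain ⟨b, hb, n, hn, u, hu, e⟩ := (Cfsg.Agent.S1100.result (F := K) D hD).1 g hg
  obtain ⟨w, hw, hact⟩ := exists_acts hD hn
  by_cases hall : ∀ i < D.rank, D.IsPosRoot (wact D w (D.simple i))
  · have hnB : n ∈ D.borelSubgroup K := by
      refine mem_borel_of_conj hD hn fun x hx => ?_
      have hle : D.posUnipotent K ≤ (D.borelSubgroup K).comap (MulAut.conj n).toMonoidHom := by
        refine (posUnipotent_le_iff hD _).2 fun r hr t => ?_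
        have h1 := Subgroup.mem_map_of_mem (MulAut.conj n).toMonoidHom (xG_mem_rootSubgroup (F := K) hD r t)
        rw [hact r hr.1] at h1
        exact (le_sup_left : D.posUnipotent K ≤ _)
          (rootSubgroup_le_pos hD (wact_pos_of_simple G hw hall hr) h1)
      exact hle hx
    rw [e]
    exact Subgroup.mul_mem _ (Subgroup.mul_mem _ hb hnB)
      ((le_sup_left : D.posUnipotent K ≤ _) (Um_le n hu))
  · exfalso
    push Not at hall
    obtain ⟨i, hi, hi'⟩ := hall
    have hneg : D.IsNegRoot (wact D w (D.simple i)) :=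
      (isNegRoot_iff_not G (wact_lt G hw (G.simple_lt hi))).2 hi'
    have hle := map_le_of_neg hD hact (G.simple_lt hi) hneg
    have huU : u ∈ D.posUnipotent K := Um_le n hu
    have e1 : n * (u * v * u⁻¹) * n⁻¹ = b⁻¹ * (g * v * g⁻¹) * b := by
      rw [e]; group
    obtain ⟨b₁, hb₁, t₁, ht₁, eb⟩ := Cfsg.Agent.S1100.exists_mul_of_mem_borel hD (Subgroup.inv_mem _ hb)
    have hHU := (Cfsg.Agent.S1036.result (F := K) D hD).1
    have h2 : b⁻¹ * (g * v * g⁻¹) * b ∈ D.posUnipotent K := by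
      have : b⁻¹ * (g * v * g⁻¹) * b = b₁ * (t₁ * (g * v * g⁻¹) * t₁⁻¹) * b₁⁻¹ := by
        have hb' : b = (b₁ * t₁)⁻¹ := by rw [← eb, inv_inv]
        rw [hb']
        group
      rw [this]
      exact Subgroup.mul_mem _ (Subgroup.mul_mem _ hb₁ ((Subgroup.mem_normalizer_iff.1 (hHU ht₁) _).1 hc))
        (Subgroup.inv_mem _ hb₁)
    have h3 : u * v * u⁻¹ ∈ D.posUnipotent K :=
      Subgroup.mul_mem _ (Subgroup.mul_mem _ huU hvU) (Subgroup.inv_mem _ huU)
    have h4 : u * v * u⁻¹ ∈ Ui K D i :=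
      mem_Ui_of_conj hD hn hi (map_conj_le.1 hle) h3 (by rw [e1]; exact h2)
    have h5 := cf_Ui hD h hi h4
    rw [cf_conj hD h (by rw [h.simple i hi, Lv_one]; exact hvU) huU] at h5
    exact hcv i hi h5

/-- **`H ∩ U` is a Sylow subgroup of `H`**, if `H` contains a regular element of `U` -/
theorem exists_sylow (hD : InList D) (h : SL D) (p : ℕ) [Fact p.Prime] [CharP K p] {H : Subgroup (GL D.Idx K)}
    [Finite H] (hH : H ≤ D.group K) {e : GL D.Idx K} (heH : e ∈ H) (heU : e ∈ D.posUnipotent K)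
    (hce : ∀ i < D.rank, cf (D.simple i) e = 1) :
    ∃ S : Sylow p H, ∀ g : H, g ∈ S ↔ (g : GL D.Idx K) ∈ D.posUnipotent K := by
  have G := RootComb.good_of_mem hD
  set T : Subgroup H := (D.posUnipotent K).subgroupOf H with hT
  have hTp : IsPGroup p T := by
    rintro ⟨h, hh⟩
    obtain ⟨k, hk⟩ := pos_pow hD p (Subgroup.mem_subgroupOf.1 hh)
    exact ⟨k, Subtype.ext (Subtype.ext hk)⟩
  obtain ⟨S, hTS⟩ := hTp.exists_le_sylow
  refine ⟨S, fun x => ⟨fun hh => ?_, fun hh => hTS (Subgroup.mem_subgroupOf.2 hh)⟩⟩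
  by_contra hne
  -- normaliser condition in `S`
  have hnil : Group.IsNilpotent S := S.isPGroup'.isNilpotent
  have hlt : T.subgroupOf S < ⊤ := by
    rw [lt_top_iff_ne_top]
    intro htop
    apply hne
    have h2 : (⟨x, hh⟩ : S) ∈ T.subgroupOf S := by rw [htop]; exact Subgroup.mem_top _
    exact Subgroup.mem_subgroupOf.1 (Subgroup.mem_subgroupOf.1 h2)
  have hnc := Group.normalizerCondition_of_isNilpotent (G := S) (T.subgroupOf S) hlt
  obtain ⟨g, hgN, hgT⟩ := SetLike.exists_of_lt hnc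
  apply hgT
  rw [Subgroup.mem_subgroupOf, hT, Subgroup.mem_subgroupOf]
  have hgB : ((g : H) : GL D.Idx K) ∈ D.borelSubgroup K := by
    refine mem_borel_of_conj_reg hD h (hH (g : H).2) heU (fun i hi => by rw [hce i hi]; exact one_ne_zero) ?_
    have h3 : (⟨e, heH⟩ : H) ∈ T := Subgroup.mem_subgroupOf.2 heU
    have h4 : (⟨⟨e, heH⟩, hTS h3⟩ : S) ∈ T.subgroupOf S := Subgroup.mem_subgroupOf.2 h3
    have h5 := (Subgroup.mem_normalizer_iff.1 hgN _).1 h4
    exact Subgroup.mem_subgroupOf.1 (Subgroup.mem_subgroupOf.1 h5)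
  obtain ⟨k, hk⟩ := S.isPGroup' g
  refine mem_pos_of_pow hD hgB (k := k) (p := p) ?_
  have := congrArg (fun z : S => ((z : H) : GL D.Idx K)) hk
  simpa using this

end Cfsg.Agent.H655.TwOv
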